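import Mathlib.Algebra.Polynomial.Expand
import Mathlib.Algebra.Polynomial.Taylor
import Mathlib.FieldTheory.IsAlgClosed.Basic

/-! Artin-Schreier equations on the line. -/

set_option autoImplicit false
universe u

open Polynomial

namespace Groth.Agent.SGA7X.GaCurve

variable {k : Type u} [Field k] {p : ℕ} [CharP k p] [Fact p.Prime]

theorem coeff_pow_char (r : k[X]) (i : ℕ) :
    (r ^ p).coeff i = if p ∣ i then r.coeff (i / p) ^ p else 0 := by
  rw [← map_frobenius_expand, coeff_map, coeff_expand (Fact.out : p.Prime).pos]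
  split_ifs
  · rfl
  · exact map_zero _

/-- Every polynomial is equivalent modulo `r ^ p - r` to one with exponents prime to `p`. -/
theorem exists_reduce [IsAlgClosed k] (q : k[X]) :
    ∃ r : k[X], ∀ i, (q + (r ^ p - r)).coeff i ≠ 0 → ¬ p ∣ i := by
  have hp : p.Prime := Fact.out
  have hmon : ∀ n (a : k), ∃ r : k[X], ∀ i, (monomial n a + (r ^ p - r)).coeff i ≠ 0 → ¬ p ∣ i := by
    intro n
    induction n using Nat.strong_induction_on with
    | _ n ih =>
      intro a
      by_cases hd : p ∣ n
      · obtain ⟨m, rfl⟩ := hd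
        rcases Nat.eq_zero_or_pos m with rfl | hm
        · obtain ⟨d, hd⟩ := IsAlgClosed.exists_root (X ^ p - X + C a : k[X]) (by
            refine (lt_of_lt_of_eq (Nat.cast_pos.2 hp.pos : (0 : WithBot ℕ) < p) ?_).ne'
            rw [sub_eq_add_neg, add_assoc, degree_add_eq_left_of_degree_lt, degree_X_pow]
            rw [degree_X_pow]
            refine lt_of_le_of_lt (degree_add_le _ _) (max_lt ?_ ?_)
            · rw [degree_neg, degree_X]; exact_mod_cast hp.one_lt
            · exact lt_of_le_of_lt degree_C_le (Nat.cast_pos.2 hp.pos))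
          refine ⟨C d, fun i hi => (hi ?_).elim⟩
          have : a + (d ^ p - d) = 0 := by
            simp only [IsRoot, eval_add, eval_sub, eval_pow, eval_X, eval_C] at hd
            rw [← hd]; ring
          rw [mul_zero, monomial_zero_left, ← C_pow, ← C_sub, ← C_add, this, C_0, coeff_zero]
        · obtain ⟨d, rfl⟩ := IsAlgClosed.exists_pow_nat_eq a hp.pos
          obtain ⟨r, hr⟩ := ih m (lt_mul_of_one_lt_left hm hp.one_lt) d
          refine ⟨r + -monomial m d, fun i => ?_⟩
          have : monomial (p * m) (d ^ p) + ((r + -monomial m d) ^ p - (r + -monomial m d))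
              = monomial m d + (r ^ p - r) := by
            rw [add_pow_char, neg_pow, monomial_pow, neg_one_pow_char (R := k[X]) p, mul_comm m p]
            ring
          rw [this]
          exact hr i
      · refine ⟨0, fun i hi => ?_⟩
        rw [zero_pow hp.ne_zero, sub_zero, add_zero, coeff_monomial] at hi
        split_ifs at hi with h
        · exact h ▸ hd
        · exact absurd rfl hi
  induction q using Polynomial.induction_on' with
  | add q₁ q₂ h₁ h₂ =>
    obtain ⟨r₁, h₁⟩ := h₁
    obtain ⟨r₂, h₂⟩ := h₂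
    refine ⟨r₁ + r₂, fun i hi hd => hi ?_⟩
    rw [add_pow_char, show q₁ + q₂ + (r₁ ^ p + r₂ ^ p - (r₁ + r₂)) = (q₁ + (r₁ ^ p - r₁)) + (q₂ + (r₂ ^ p - r₂)) by ring,
      coeff_add, show (q₁ + (r₁ ^ p - r₁)).coeff i = 0 from not_not.1 fun h => h₁ i h hd,
      show (q₂ + (r₂ ^ p - r₂)).coeff i = 0 from not_not.1 fun h => h₂ i h hd, add_zero]
  | monomial n a => exact hmon n a

/-- If all translates of a reduced `q` differ from it by `r ^ p - r`, then `q` is linear. -/
theorem natDegree_le_one_of_taylor [Infinite k] (q : k[X]) (hq : ∀ i, q.coeff i ≠ 0 → ¬ p ∣ i)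
    (h : ∀ c : k, ∃ r : k[X], r ^ p - r = taylor c q - q) : q.natDegree ≤ 1 := by
  have hp : p.Prime := Fact.out
  by_contra hn
  choose r hr using h
  set n := q.natDegree with hn_def
  have hlead : q.leadingCoeff ≠ 0 := leadingCoeff_ne_zero.2 fun h0 => by
    rw [hn_def, h0, natDegree_zero] at hn; omega
  have hna : (n : k) * q.leadingCoeff ≠ 0 :=
    mul_ne_zero (fun h0 => hq n hlead ((CharP.cast_eq_zero_iff k p n).1 h0)) hlead
  have hcoef : ∀ i, 1 ≤ i → ∃ P : k[X], ∀ c, (r c).coeff i = P.eval c := by
    intro i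
    induction i using Nat.strong_induction_on with
    | _ i ih =>
      intro hi
      have hc : ∀ c, (r c).coeff i =
          (if p ∣ i then (r c).coeff (i / p) ^ p else 0) - ((hasseDeriv i q).eval c - q.coeff i) := by
        intro c
        have := congrArg (fun s => s.coeff i) (hr c)
        simp only [coeff_sub, coeff_pow_char, taylor_coeff] at this
        rw [← this]; ring
      by_cases hd : p ∣ i
      · obtain ⟨P, hP⟩ := ih (i / p) (Nat.div_lt_self hi hp.one_lt)
          (Nat.div_pos (Nat.le_of_dvd hi hd) hp.pos)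
        exact ⟨P ^ p - (hasseDeriv i q - C (q.coeff i)), fun c => by
          rw [hc c, if_pos hd, hP c]; simp⟩
      · exact ⟨-(hasseDeriv i q - C (q.coeff i)), fun c => by rw [hc c, if_neg hd]; simp⟩
  have htop : ∀ c, (taylor c q - q).coeff (n - 1) = n * q.leadingCoeff * c := by
    intro c
    rw [coeff_sub, taylor_coeff]
    have hdeg : (hasseDeriv (n - 1) q).natDegree < 2 := by
      have := natDegree_hasseDeriv_le q (n - 1); omega
    rw [eval_eq_sum_range' hdeg, Finset.sum_range_succ, Finset.sum_range_one, hasseDeriv_coeff, hasseDeriv_coeff,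
      zero_add, Nat.choose_self, Nat.cast_one, one_mul, show 1 + (n - 1) = n by omega,
      Nat.choose_symm_of_eq_add (show n = (n - 1) + 1 by omega), Nat.choose_one_right]
    simp [leadingCoeff, ← hn_def]
  have hne : ∀ c ≠ 0, taylor c q - q ≠ 0 := fun c hc h0 => by
    have := htop c
    rw [h0, coeff_zero] at this
    exact mul_ne_zero hna hc this.symm
  have hMc : ∀ c ≠ 0, p * (r c).natDegree = n - 1 := by
    intro c hc
    have hdeg : (taylor c q - q).natDegree = n - 1 := by
      refine le_antisymm ?_ (le_natDegree_of_ne_zero (by rw [htop]; exact mul_ne_zero hna hc))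
      refine Nat.le_sub_one_of_lt (lt_of_le_of_ne ?_ fun e => ?_)
      · exact (natDegree_sub_le _ _).trans (max_le (by rw [natDegree_taylor]) le_rfl)
      · have h1 : (taylor c q - q).coeff n = 0 := by
          rw [coeff_sub]
          nth_rewrite 1 [hn_def, ← natDegree_taylor q c]
          rw [coeff_natDegree, leadingCoeff_taylor, hn_def, coeff_natDegree, sub_self]
        rw [← e, coeff_natDegree, leadingCoeff_eq_zero] at h1
        exact hne c hc h1
    rw [← hr c] at hdeg
    rcases Nat.eq_zero_or_pos (r c).natDegree with h0 | h0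
    · have : ((r c) ^ p - r c).natDegree ≤ 0 := (natDegree_sub_le _ _).trans (by simp [natDegree_pow, h0])
      omega
    · rw [natDegree_sub_eq_left_of_natDegree_lt, natDegree_pow] at hdeg
      · exact hdeg
      · rw [natDegree_pow]; exact lt_mul_of_one_lt_left h0 hp.one_lt
  set m := (r 1).natDegree
  have hm : p * m = n - 1 := hMc 1 one_ne_zero
  obtain ⟨P, hP⟩ := hcoef m (Nat.one_le_iff_ne_zero.2 fun h0 => by rw [h0] at hm; omega)
  have hid : P ^ p = C ((n : k) * q.leadingCoeff) * X := by
    refine eq_of_infinite_eval_eq _ _ ((Set.finite_singleton (0 : k)).infinite_compl.mono fun c hc => ?_)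
    have hc : c ≠ 0 := hc
    show eval c (P ^ p) = eval c _
    rw [eval_pow, ← hP c, eval_mul, eval_C, eval_X, ← htop c, ← hr c, coeff_sub, coeff_pow_char, ← hm,
      if_pos (Dvd.intro m rfl), Nat.mul_div_cancel_left m hp.pos,
      show (r c).coeff (p * m) = 0 from coeff_eq_zero_of_natDegree_lt (by
        rw [hm, ← hMc c hc]
        refine lt_mul_of_one_lt_left (Nat.pos_of_ne_zero fun h0 => ?_) hp.one_lt
        have := hMc c hc
        rw [h0] at this; omega), sub_zero]
  have h1 := congrArg natDegree hid
  rw [natDegree_pow, natDegree_C_mul_X _ hna] at h1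
  exact hp.ne_one (mul_eq_one.1 h1 |>.1)

end Groth.Agent.SGA7X.GaCurve
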