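import Groth.Agent.SGA7X.GaCurve.Inv
import Groth.Agent.SGA7X.GaCurve.ASPoly
import Mathlib.Algebra.Module.ZMod
import Mathlib.LinearAlgebra.Dual.Lemmas
import Mathlib.LinearAlgebra.FreeModule.Basic
import Mathlib.FieldTheory.Finite.Basic

/-! A separable additive function with nontrivial kernel descends along Artin-Schreier. -/

set_option autoImplicit false
set_option linter.unusedSectionVars false
universe u

open Polynomial

namespace Groth.Agent.SGA7X.GaCurve

variable {k A : Type u} [Field k] [CommRing A] [Algebra k A] [IsAlgClosed k] [Algebra.FiniteType k A]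

namespace Law

variable {p : ℕ} {L : Law k A p} [IsDomain A] {x : A}

/-- Separation of finitely many points. -/
theorem exists_delta (S : Finset L.P) (g : L.P) : ∃ θ : A, g.f θ = 1 ∧ ∀ h ∈ S, h ≠ g → h.f θ = 0 := by
  classical
  have : ∀ h : L.P, h ≠ g → ∃ a : A, g.f a = 1 ∧ h.f a = 0 := by
    intro h hh
    obtain ⟨b, hb⟩ : ∃ b, g.f b ≠ h.f b := by
      by_contra hc
      simp only [not_exists, not_not] at hc
      exact hh (P.ext (AlgHom.ext fun b => (hc b).symm))
    refine ⟨(g.f b - h.f b)⁻¹ • (b - algebraMap k A (h.f b)), ?_, ?_⟩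
    · simp [inv_mul_cancel₀ (sub_ne_zero.2 hb)]
    · simp
  choose a ha₁ ha₂ using this
  refine ⟨∏ h ∈ S, if hh : h ≠ g then a h hh else 1, ?_, fun h hS hh => ?_⟩
  · rw [map_prod]
    refine Finset.prod_eq_one fun h _ => ?_
    by_cases hh : h ≠ g
    · rw [dif_pos hh]; exact ha₁ h hh
    · rw [dif_neg hh]; exact map_one _
  · rw [map_prod]
    exact Finset.prod_eq_zero hS (by rw [dif_pos hh]; exact ha₂ h hh)

theorem IsPrim.taylor_eq (hx : L.IsPrim x) (g : L.P) (q : k[X]) :
    L.T g (aeval x q) = aeval x (taylor (g.f x) q) := by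
  rw [← aeval_algHom_apply, hx.T_eq, taylor_apply, aeval_comp, map_add, aeval_X, aeval_C]

theorem IsPrim.exists_sum_T (hx : L.IsPrim x) (h0 : x ≠ 0) (hfin : {g : L.P | g.f x = 0}.Finite)
    (F : Type u) [Field F] [Algebra k F] [Algebra A F] [IsScalarTower k A F] [IsFractionRing A F]
    [FiniteDimensional (IntermediateField.adjoin k ({algebraMap A F x} : Set F)) F]
    [Algebra.IsSeparable (IntermediateField.adjoin k ({algebraMap A F x} : Set F)) F] :
    ∃ θ : A, ∑ e ∈ hfin.toFinset, L.T e θ = 1 := by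
  classical
  set E := hfin.toFinset
  have hE : ∀ g, g ∈ E ↔ g.f x = 0 := fun g => hfin.mem_toFinset
  let S : A →ₗ[k] A := ∑ e ∈ E, (L.T e).toLinearMap
  have hS : ∀ a, S a = ∑ e ∈ E, L.T e a := fun a => by simp [S]
  have hT : ∀ e, e ∈ E → ∀ q : k[X], L.T e (aeval x q) = aeval x q := fun e he q => by
    rw [hx.taylor_eq, (hE e).1 he, taylor_zero]
  let I : Ideal k[X] :=
    { carrier := {q | ∃ θ, S θ = aeval x q}
      add_mem' := fun ⟨θ, h⟩ ⟨θ', h'⟩ => ⟨θ + θ', by rw [map_add, h, h', map_add]⟩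
      zero_mem' := ⟨0, by rw [map_zero, map_zero]⟩
      smul_mem' := fun r q ⟨θ, h⟩ => ⟨aeval x r * θ, by
        rw [hS, Finset.sum_congr rfl fun e he => by rw [map_mul, hT e he r], ← Finset.mul_sum, ← hS, h,
          smul_eq_mul, map_mul]⟩ }
  have hpt : ∀ c : k, ∃ q ∈ I, q.eval c = 1 := by
    intro c
    obtain ⟨g, hg⟩ := hx.surjective h0 c
    obtain ⟨θ, h1, h2⟩ := exists_delta (L := L) (E.image (g + ·)) g
    obtain ⟨q, hq⟩ := hx.mem_range_of_invariant h0 F (a := S θ) fun d hd => by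
      rw [hS, map_sum]
      refine Finset.sum_bij (fun e _ => d + e) (fun e he => (hE _).2 ?_) (fun a _ b _ h => add_left_cancel h)
        (fun b hb => ⟨b - d, (hE _).2 ?_, add_sub_cancel d b⟩) fun e _ => L.T_T d e θ
      · rw [hx, hd, (hE e).1 he, add_zero]
      · have := hx (b - d) d
        rw [sub_add_cancel, (hE b).1 hb, hd, add_zero] at this
        exact this.symm
    refine ⟨q, ⟨θ, hq.symm⟩, ?_⟩
    rw [← hg, ← apply_aeval, hq, hS, map_sum, Finset.sum_eq_single (0 : L.P)]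
    · rw [L.T_zero, h1]
    · intro e he he0
      rw [L.apply_T]
      exact h2 _ (Finset.mem_image_of_mem _ he) fun hh => he0 (add_eq_left.mp hh)
    · exact fun hh => absurd ((hE 0).2 hx.zero) hh
  obtain ⟨f, hf⟩ := (IsPrincipalIdealRing.principal I).principal
  have hfu : IsUnit f := by
    by_contra hu
    have hroot : ∃ c, f.eval c = 0 := by
      rcases eq_or_ne f 0 with rfl | hf0
      · exact ⟨0, eval_zero⟩
      · exact IsAlgClosed.exists_root f fun hd => hu (isUnit_iff_degree_eq_zero.2 hd)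
    obtain ⟨c, hc⟩ := hroot
    obtain ⟨q, hq, hq1⟩ := hpt c
    rw [hf] at hq
    obtain ⟨r, rfl⟩ := Ideal.mem_span_singleton.1 hq
    rw [eval_mul, hc, zero_mul] at hq1
    exact zero_ne_one hq1
  obtain ⟨θ, hθ⟩ : (1 : k[X]) ∈ I := by
    rw [hf]; exact Ideal.mem_span_singleton.2 (isUnit_iff_dvd_one.1 hfu)
  exact ⟨θ, by rw [← hS, hθ, map_one]⟩

theorem IsPrim.exists_descend [CharP k p] [Fact p.Prime] (hx : L.IsPrim x) (h0 : x ≠ 0)
    (hfin : {g : L.P | g.f x = 0}.Finite)
    (F : Type u) [Field F] [Algebra k F] [Algebra A F] [IsScalarTower k A F] [IsFractionRing A F]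
    [FiniteDimensional (IntermediateField.adjoin k ({algebraMap A F x} : Set F)) F]
    [Algebra.IsSeparable (IntermediateField.adjoin k ({algebraMap A F x} : Set F)) F]
    (hE : ∃ g : L.P, g ≠ 0 ∧ g.f x = 0) :
    ∃ (y : A) (a : k) (d : L.P), L.IsPrim y ∧ a ≠ 0 ∧ y ^ p - y = algebraMap k A a * x ∧
      d.f x = 0 ∧ d.f y ≠ 0 := by
  classical
  have hp : p.Prime := Fact.out
  have : CharP A p := charP_of_injective_algebraMap (R := k) (algebraMap k A).injective p
  obtain ⟨θ, hθ⟩ := hx.exists_sum_T h0 hfin F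
  have : Module (ZMod p) L.P := AddCommGroup.zmodModule L.smul_eq_zero
  obtain ⟨d, hd0, hdx⟩ := hE
  obtain ⟨φ, hφ⟩ : ∃ φ : L.P →ₗ[ZMod p] ZMod p, φ d ≠ 0 := by
    by_contra h
    simp only [not_exists, not_not] at h
    exact hd0 ((Module.forall_dual_apply_eq_zero_iff (ZMod p) d).1 h)
  let χ : L.P → A := fun g => algebraMap k A (ZMod.castHom dvd_rfl k (φ g))
  have hχadd : ∀ a b, χ (a + b) = χ a + χ b := fun a b => by simp [χ, map_add]
  have hχp : ∀ g, χ g ^ p = χ g := fun g => by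
    simp only [χ]; rw [← map_pow, ← map_pow, ZMod.pow_card]
  set E := hfin.toFinset
  have hEm : ∀ g, g ∈ E ↔ g.f x = 0 := fun g => hfin.mem_toFinset
  let y₀ : A := -∑ e ∈ E, χ e * L.T e θ
  have hy₀ : ∀ g, g.f x = 0 → L.T g y₀ = y₀ + χ g := by
    intro g hg
    have hsub : ∀ b : L.P, b.f x = 0 → (b - g).f x = 0 := fun b hb => by
      have := hx (b - g) g
      rw [sub_add_cancel, hb, hg, add_zero] at this
      exact this.symm
    have h1 : L.T g y₀ = -∑ e ∈ E, (χ e - χ g) * L.T e θ := by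
      simp only [y₀, map_neg, map_sum]
      congr 1
      refine Finset.sum_bij (fun e _ => g + e) (fun e he => (hEm _).2 ?_) (fun a _ b _ h => add_left_cancel h)
        (fun b hb => ⟨b - g, (hEm _).2 (hsub b ((hEm b).1 hb)), add_sub_cancel g b⟩) fun e _ => ?_
      · rw [hx, hg, (hEm e).1 he, add_zero]
      · rw [map_mul, L.T_T, show χ (g + e) - χ g = χ e by rw [hχadd g e]; ring]
        simp only [χ, AlgHom.commutes]
    rw [h1]
    simp only [sub_mul, Finset.sum_sub_distrib, ← Finset.mul_sum]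
    rw [hθ, mul_one, neg_sub, sub_eq_add_neg, add_comm]
  obtain ⟨q₀, hq₀⟩ := hx.mem_range_of_invariant h0 F (a := y₀ ^ p - y₀) fun g hg => by
    rw [map_sub, map_pow, hy₀ g hg, add_pow_char, hχp]; ring
  obtain ⟨r₀, hr₀⟩ := exists_reduce (p := p) q₀
  set q := q₀ + (r₀ ^ p - r₀)
  let y₁ : A := y₀ + aeval x r₀
  have hw : y₁ ^ p - y₁ = aeval x q := by
    simp only [y₁, q, add_pow_char, map_add, map_sub, map_pow, hq₀]; ring
  have hy₁ : ∀ g, g.f x = 0 → L.T g y₁ = y₁ + χ g := fun g hg => by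
    simp only [y₁, map_add, hy₀ g hg, hx.taylor_eq, hg, taylor_zero]; ring
  have hinj := hx.aeval_injective h0
  have hdiff : ∀ g : L.P, ∃ r : k[X], aeval x r = L.T g y₁ - y₁ ∧ r ^ p - r = taylor (g.f x) q - q := by
    intro g
    obtain ⟨r, hr⟩ := hx.mem_range_of_invariant h0 F (a := L.T g y₁ - y₁) fun e he => by
      rw [map_sub, L.T_T, add_comm, ← L.T_T, hy₁ e he, map_add]
      simp only [χ, AlgHom.commutes]; ring
    refine ⟨r, hr, hinj ?_⟩
    rw [map_sub, map_sub, map_pow, hr, ← hw, sub_pow_char, ← hx.taylor_eq, ← hw, map_sub, map_pow]; ring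
  have hdeg : q.natDegree ≤ 1 := natDegree_le_one_of_taylor q hr₀ fun c => by
    obtain ⟨g, rfl⟩ := hx.surjective h0 c
    obtain ⟨r, -, hr⟩ := hdiff g
    exact ⟨r, hr⟩
  have hq : q = C (q.coeff 1) * X := by
    conv_lhs => rw [eq_X_add_C_of_natDegree_le_one hdeg,
      show q.coeff 0 = 0 from not_not.1 fun h => hr₀ 0 h (dvd_zero p), C_0, add_zero]
  have hconst : ∀ g : L.P, ∃ κ : k, L.T g y₁ = y₁ + algebraMap k A κ := by
    intro g
    obtain ⟨r, hr, hr'⟩ := hdiff g
    have hr0 : r.natDegree = 0 := by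
      by_contra hne
      have h1 : (r ^ p - r).natDegree = p * r.natDegree := by
        rw [natDegree_sub_eq_left_of_natDegree_lt, natDegree_pow]
        rw [natDegree_pow]; exact lt_mul_of_one_lt_left (Nat.pos_of_ne_zero hne) hp.one_lt
      have h2 : (taylor (g.f x) q - q).natDegree = 0 := by
        rw [hq, taylor_apply, mul_comp, C_comp, X_comp, mul_add, add_sub_cancel_left, ← C_mul, natDegree_C]
      rw [hr', h2] at h1
      exact mul_ne_zero hp.ne_zero hne h1.symm
    obtain ⟨κ, rfl⟩ := natDegree_eq_zero.1 hr0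
    exact ⟨κ, by rw [aeval_C] at hr; rw [hr]; ring⟩
  let y : A := y₁ - algebraMap k A ((0 : L.P).f y₁)
  have hTy : ∀ g h : L.P, (g + h).f y = g.f y + h.f y := by
    intro g h
    obtain ⟨κ, hκ⟩ := hconst h
    have e1 : ∀ l : L.P, (l + h).f y₁ = l.f y₁ + κ := fun l => by
      rw [← L.apply_T, hκ, map_add, AlgHom.commutes, Algebra.algebraMap_self, RingHom.id_apply]
    simp only [y, map_sub, AlgHom.commutes, Algebra.algebraMap_self, RingHom.id_apply]
    have e2 := e1 0
    rw [zero_add] at e2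
    rw [e1 g, e2]; ring
  have hdy : d.f y ≠ 0 := by
    have e : L.T d y₁ = y₁ + χ d := hy₁ d hdx
    have : d.f y = ZMod.castHom dvd_rfl k (φ d) := by
      simp only [y, map_sub, AlgHom.commutes, Algebra.algebraMap_self, RingHom.id_apply]
      rw [show d.f y₁ = (0 : L.P).f (L.T d y₁) by rw [L.apply_T, zero_add], e]
      simp [χ]
    rw [this]
    exact fun h => hφ ((ZMod.castHom dvd_rfl k).injective (h.trans (map_zero _).symm))
  have hyp : y ^ p - y = algebraMap k A (q.coeff 1) * x := by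
    have h00 := congrArg (0 : L.P).f hw
    rw [map_sub, map_pow, apply_aeval, hx.zero] at h00
    rw [hq, eval_mul, eval_X, mul_zero, sub_eq_zero] at h00
    simp only [y, sub_pow_char, ← map_pow, h00]
    rw [sub_sub_sub_cancel_right, hw]
    conv_lhs => rw [hq, map_mul, aeval_C, aeval_X]
  refine ⟨y, q.coeff 1, d, hTy, fun ha => ?_, hyp, hdx, hdy⟩
  rw [ha, map_zero, zero_mul, sub_eq_zero] at hyp
  have hint : IsIntegral k y := ⟨X ^ p - X, monic_X_pow_sub (by rw [degree_X]; exact_mod_cast hp.one_lt),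
    by simp [eval₂_sub, hyp]⟩
  obtain ⟨c, hc⟩ := minpoly.mem_range_of_degree_eq_one k y
    (IsAlgClosed.degree_eq_one_of_irreducible k (minpoly.irreducible hint))
  have hy0 : (0 : L.P).f y = 0 := by
    have h := hTy 0 0
    rw [add_zero] at h
    exact left_eq_add.mp h
  rw [← hc, AlgHom.commutes, Algebra.algebraMap_self, RingHom.id_apply] at hdy hy0
  exact hdy hy0

end Law

end Groth.Agent.SGA7X.GaCurve
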