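import Mathlib.RingTheory.TensorProduct.Maps
import Mathlib.RingTheory.Nullstellensatz
import Mathlib.RingTheory.Jacobson.Ring
import Mathlib.RingTheory.Flat.TorsionFree
import Mathlib.RingTheory.Flat.FaithfullyFlat.Algebra
import Mathlib.RingTheory.Spectrum.Prime.Chevalley
import Mathlib.RingTheory.Adjoin.PowerBasis
import Mathlib.FieldTheory.IsAlgClosed.Basic
import Mathlib.Algebra.Polynomial.FieldDivision
import Mathlib.Algebra.CharP.Basic
import Mathlib.RingTheory.PrincipalIdealDomain
import Mathlib.RingTheory.RingHom.Flat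

/-! Affine commutative groups killed by a number, through their rational points; additive functions. -/

set_option autoImplicit false
set_option linter.unusedSectionVars false
universe u

open TensorProduct

namespace Groth.Agent.SGA7X.GaCurve

variable {k A : Type u} [Field k] [CommRing A] [Algebra k A]

/-- The product of two points for a comultiplication. -/
noncomputable def mulPts (Δ : A →ₐ[k] A ⊗[k] A) (g h : A →ₐ[k] k) : A →ₐ[k] k :=
  (Algebra.TensorProduct.lift g h fun _ _ => Commute.all _ _).comp Δ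

variable (k A) in
/-- An affine commutative group law killed by `p`, seen on rational points. -/
structure Law (p : ℕ) where
  Δ : A →ₐ[k] A ⊗[k] A
  e : A →ₐ[k] k
  assoc : ∀ g h l, mulPts Δ (mulPts Δ g h) l = mulPts Δ g (mulPts Δ h l)
  comm : ∀ g h, mulPts Δ g h = mulPts Δ h g
  one_mul : ∀ g, mulPts Δ e g = g
  killed : ∀ g, (mulPts Δ g)^[p] e = e
  hp : 0 < p

namespace Law

variable {p : ℕ}

/-- The group of points. -/
@[ext]
structure P (L : Law k A p) where
  f : A →ₐ[k] k

variable (L : Law k A p)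

noncomputable instance : Zero L.P := ⟨⟨L.e⟩⟩
noncomputable instance : Add L.P := ⟨fun g h => ⟨mulPts L.Δ g.f h.f⟩⟩
noncomputable instance : Neg L.P := ⟨fun g => ⟨(mulPts L.Δ g.f)^[p - 1] L.e⟩⟩

noncomputable instance : AddCommGroup L.P where
  add_assoc _ _ _ := P.ext (L.assoc _ _ _)
  zero_add _ := P.ext (L.one_mul _)
  add_zero _ := P.ext ((L.comm _ _).trans (L.one_mul _))
  nsmul := nsmulRec
  zsmul := zsmulRec
  neg_add_cancel g := P.ext (by
    show mulPts L.Δ ((mulPts L.Δ g.f)^[p - 1] L.e) g.f = L.e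
    rw [L.comm, ← Function.iterate_succ_apply' (mulPts L.Δ g.f), Nat.sub_one, Nat.succ_pred L.hp.ne']
    exact L.killed g.f)
  add_comm _ _ := P.ext (L.comm _ _)

theorem add_f (g h : L.P) : (g + h).f = mulPts L.Δ g.f h.f := rfl

theorem zero_f : (0 : L.P).f = L.e := rfl

theorem nsmul_f (g : L.P) (n : ℕ) : (n • g).f = (mulPts L.Δ g.f)^[n] L.e := by
  induction n with
  | zero => rw [zero_nsmul]; rfl
  | succ n ih => rw [succ_nsmul', Function.iterate_succ_apply', L.add_f, ih]

theorem smul_eq_zero (g : L.P) : p • g = 0 := P.ext ((L.nsmul_f g p).trans (L.killed g.f))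

/-- Translation by a point. -/
noncomputable def T (g : L.P) : A →ₐ[k] A :=
  (Algebra.TensorProduct.lift (AlgHom.id k A) ((Algebra.ofId k A).comp g.f) fun _ _ => Commute.all _ _).comp L.Δ

theorem apply_T (g h : L.P) (a : A) : h.f (L.T g a) = (h + g).f a := by
  have e : h.f.comp (Algebra.TensorProduct.lift (AlgHom.id k A) ((Algebra.ofId k A).comp g.f)
      fun _ _ => Commute.all _ _) = Algebra.TensorProduct.lift h.f g.f fun _ _ => Commute.all _ _ := by
    ext <;> simp
  exact DFunLike.congr_fun e (L.Δ a)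

/-- An additive function. -/
def IsPrim (x : A) : Prop := ∀ g h : L.P, (g + h).f x = g.f x + h.f x

variable {L}

theorem IsPrim.zero {x : A} (hx : L.IsPrim x) : (0 : L.P).f x = 0 := by
  have h := hx 0 0
  rw [add_zero] at h
  exact left_eq_add.mp h

variable (L)

/-- The points where an additive function vanishes. -/
def ker {x : A} (hx : L.IsPrim x) : AddSubgroup L.P where
  carrier := {g | g.f x = 0}
  add_mem' {g h} hg hh := by
    show (g + h).f x = 0
    rw [hx, show g.f x = 0 from hg, show h.f x = 0 from hh, add_zero]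
  zero_mem' := hx.zero
  neg_mem' {g} hg := by
    show (-g).f x = 0
    have h := hx (-g) g
    rw [neg_add_cancel, hx.zero, show g.f x = 0 from hg, add_zero] at h
    exact h.symm

theorem mem_ker {x : A} (hx : L.IsPrim x) (g : L.P) : g ∈ L.ker hx ↔ g.f x = 0 := Iff.rfl

end Law

variable [IsAlgClosed k] [Algebra.FiniteType k A]

theorem exists_pt_ker (m : Ideal A) [m.IsMaximal] : ∃ g : A →ₐ[k] k, ∀ a, g a = 0 ↔ a ∈ m := by
  let := Ideal.Quotient.field m
  have : Algebra.FiniteType k (A ⧸ m) := Algebra.FiniteType.of_surjective (Ideal.Quotient.mkₐ k m)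
    Ideal.Quotient.mk_surjective
  have : Module.Finite k (A ⧸ m) := finite_of_finite_type_of_isJacobsonRing k (A ⧸ m)
  let e : k ≃ₐ[k] A ⧸ m :=
    AlgEquiv.ofBijective (Algebra.ofId k (A ⧸ m)) IsAlgClosed.algebraMap_bijective_of_isIntegral
  refine ⟨e.symm.toAlgHom.comp (Ideal.Quotient.mkₐ k m), fun a => ?_⟩
  show e.symm (Ideal.Quotient.mk m a) = 0 ↔ _
  rw [map_eq_zero_iff e.symm e.symm.injective, Ideal.Quotient.eq_zero_iff_mem]

/-- A function vanishing at all points of a reduced algebra of finite type is zero. -/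
theorem eq_zero_of_pts [IsReduced A] {a : A} (h : ∀ g : A →ₐ[k] k, g a = 0) : a = 0 := by
  have : IsJacobsonRing A := isJacobsonRing_of_finiteType (A := k)
  have hmem : a ∈ (⊥ : Ideal A).jacobson := by
    simp only [Ideal.jacobson, Ideal.mem_sInf]
    rintro m ⟨-, hm⟩
    have := hm
    obtain ⟨g, hg⟩ := exists_pt_ker (k := k) m
    exact (hg a).1 (h g)
  rwa [IsJacobsonRing.out' (⊥ : Ideal A) (Ideal.isRadical_bot (R := A)), Ideal.mem_bot] at hmem

theorem ext_of_pts [IsReduced A] {a b : A} (h : ∀ g : A →ₐ[k] k, g a = g b) : a = b :=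
  sub_eq_zero.1 (eq_zero_of_pts (k := k) fun g => by rw [map_sub, h, sub_self])

namespace Law

variable {p : ℕ} (L : Law k A p) [IsDomain A]

theorem ext {a b : A} (h : ∀ g : L.P, g.f a = g.f b) : a = b := ext_of_pts fun g => h ⟨g⟩

theorem T_T (g h : L.P) (a : A) : L.T g (L.T h a) = L.T (g + h) a :=
  L.ext fun l => by rw [L.apply_T, L.apply_T, L.apply_T, add_assoc]

theorem T_zero (a : A) : L.T 0 a = a := L.ext fun l => by rw [L.apply_T, add_zero]

variable {L} {x : A}

theorem IsPrim.T_eq (hx : L.IsPrim x) (g : L.P) : L.T g x = x + algebraMap k A (g.f x) :=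
  L.ext fun l => by rw [L.apply_T, hx, map_add, AlgHom.commutes, Algebra.algebraMap_self, RingHom.id_apply]

omit [IsAlgClosed k] [Algebra.FiniteType k A] [IsDomain A] in
theorem IsPrim.notMem_range (hx : L.IsPrim x) (h0 : x ≠ 0) : x ∉ Set.range (algebraMap k A) := by
  rintro ⟨c, rfl⟩
  have := hx.zero
  rw [AlgHom.commutes, Algebra.algebraMap_self, RingHom.id_apply] at this
  exact h0 (by rw [this, map_zero])

theorem IsPrim.aeval_injective (hx : L.IsPrim x) (h0 : x ≠ 0) :
    Function.Injective (Polynomial.aeval x : Polynomial k →ₐ[k] A) := by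
  rw [injective_iff_map_eq_zero]
  intro q hq
  by_contra hq0
  have hint : IsIntegral k x := (isAlgebraic_iff_isIntegral (K := k)).1 ⟨q, hq0, hq⟩
  exact hx.notMem_range h0 (minpoly.mem_range_of_degree_eq_one k x
    (IsAlgClosed.degree_eq_one_of_irreducible k (minpoly.irreducible hint)))

omit [IsAlgClosed k] [Algebra.FiniteType k A] [IsDomain A] in
theorem apply_aeval (g : L.P) (x : A) (q : Polynomial k) : g.f (Polynomial.aeval x q) = q.eval (g.f x) := by
  rw [← Polynomial.aeval_algHom_apply, Polynomial.coe_aeval_eq_eval]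

/-- Flatness over the line. -/
theorem IsPrim.flat (hx : L.IsPrim x) (h0 : x ≠ 0) :
    (Polynomial.aeval x : Polynomial k →ₐ[k] A).toRingHom.Flat := by
  let : Algebra (Polynomial k) A := (Polynomial.aeval x : Polynomial k →ₐ[k] A).toRingHom.toAlgebra
  have : Module.IsTorsionFree (Polynomial k) A := Module.IsTorsionFree.comap (algebraMap (Polynomial k) A)
    (fun r hr => isRegular_iff_ne_zero.2 fun h => hr.ne_zero (hx.aeval_injective h0 (h.trans (map_zero _).symm)))
    fun r m => (Algebra.smul_def r m).symm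
  exact (inferInstance : Module.Flat (Polynomial k) A)

/-- Every value is taken. -/
theorem IsPrim.surjective (hx : L.IsPrim x) (h0 : x ≠ 0) (c : k) : ∃ g : L.P, g.f x = c := by
  classical
  let : Algebra (Polynomial k) A := (Polynomial.aeval x : Polynomial k →ₐ[k] A).toRingHom.toAlgebra
  have : IsScalarTower k (Polynomial k) A := IsScalarTower.of_algebraMap_eq fun r =>
    ((Polynomial.aeval x).commutes r).symm
  have : Algebra.FiniteType (Polynomial k) A := Algebra.FiniteType.of_restrictScalars_finiteType k _ _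
  have : Algebra.FinitePresentation (Polynomial k) A := Algebra.FinitePresentation.of_finiteType.1 inferInstance
  have : Module.Flat (Polynomial k) A := hx.flat h0
  have hopen : IsOpen (Set.range (PrimeSpectrum.comap (algebraMap (Polynomial k) A))) :=
    (PrimeSpectrum.isOpenMap_comap_of_hasGoingDown_of_finitePresentation).isOpen_range
  obtain ⟨q⟩ : Nonempty (PrimeSpectrum A) := inferInstance
  obtain ⟨_, ⟨f, rfl⟩, hq, hsub⟩ := PrimeSpectrum.isTopologicalBasis_basic_opens.exists_subset_of_mem_open
    (Set.mem_range_self q) hopen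
  have hf : f ≠ 0 := fun h => hq (h ▸ Ideal.zero_mem _)
  have key : ∀ d : k, f.eval d ≠ 0 → ∃ g : L.P, g.f x = d := by
    intro d hd
    let M := RingHom.ker (Polynomial.evalRingHom d)
    have hM : M.IsMaximal := RingHom.ker_isMaximal_of_surjective _ fun r => ⟨Polynomial.C r, Polynomial.eval_C⟩
    obtain ⟨Q, hQ⟩ := hsub (show (⟨M, hM.isPrime⟩ : PrimeSpectrum _) ∈ PrimeSpectrum.basicOpen f from hd)
    obtain ⟨m, hm, hle⟩ := Ideal.exists_le_maximal Q.asIdeal Q.isPrime.ne_top
    obtain ⟨g, hg⟩ := exists_pt_ker (k := k) m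
    refine ⟨⟨g⟩, ?_⟩
    have hd' : (Polynomial.X - Polynomial.C d) ∈ Q.asIdeal.comap (algebraMap (Polynomial k) A) := by
      rw [show Q.asIdeal.comap (algebraMap (Polynomial k) A) = M from congrArg PrimeSpectrum.asIdeal hQ]
      simp [M]
    have := (hg _).2 (hle hd')
    rw [RingHom.algebraMap_toAlgebra] at this
    simpa [sub_eq_zero] using this
  obtain ⟨c₁, hc₁⟩ : ∃ c₁, (f * f.comp (Polynomial.C c - Polynomial.X)).eval c₁ ≠ 0 := by
    by_contra h
    simp only [not_exists, not_not] at h
    have hz := Polynomial.funext (q := 0) fun r => by rw [h r, Polynomial.eval_zero]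
    rcases mul_eq_zero.1 hz with h' | h'
    · exact hf h'
    · apply hf
      have := congrArg (fun q => q.comp (Polynomial.C c - Polynomial.X)) h'
      simpa [Polynomial.comp_assoc] using this
  rw [Polynomial.eval_mul, Polynomial.eval_comp] at hc₁
  obtain ⟨g, hg⟩ := key c₁ (left_ne_zero_of_mul hc₁)
  obtain ⟨h, hh⟩ := key (c - c₁) (by simpa using right_ne_zero_of_mul hc₁)
  exact ⟨g + h, by rw [hx, hg, hh, add_sub_cancel]⟩

/-- Faithful flatness over the line. -/
theorem IsPrim.faithfullyFlat (hx : L.IsPrim x) (h0 : x ≠ 0) :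
    letI := (Polynomial.aeval x : Polynomial k →ₐ[k] A).toRingHom.toAlgebra
    Module.FaithfullyFlat (Polynomial k) A := by
  let : Algebra (Polynomial k) A := (Polynomial.aeval x : Polynomial k →ₐ[k] A).toRingHom.toAlgebra
  have : Module.Flat (Polynomial k) A := hx.flat h0
  refine ⟨fun M hM htop => ?_⟩
  obtain ⟨a, ha⟩ := IsPrincipalIdealRing.principal M
  have hirr : Irreducible a := by
    refine Prime.irreducible ((Ideal.span_singleton_prime ?_).1 ?_)
    swap
    · have := hM.isPrime
      rwa [ha] at this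
    rintro rfl
    subst ha
    obtain ⟨y, i, hi, h1⟩ := hM.exists_inv (show (Polynomial.X : Polynomial k) ∉ Submodule.span (Polynomial k) ({0} : Set (Polynomial k)) by
      simp)
    rw [Submodule.span_zero_singleton] at hi
    rw [(Submodule.mem_bot _).1 hi, add_zero, mul_comm] at h1
    exact Polynomial.not_isUnit_X (IsUnit.of_mul_eq_one _ h1)
  obtain ⟨d, hd⟩ := IsAlgClosed.exists_root a (by rw [IsAlgClosed.degree_eq_one_of_irreducible k hirr]; exact one_ne_zero)
  obtain ⟨g, hg⟩ := hx.surjective h0 d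
  have hzero : ∀ z ∈ M • (⊤ : Submodule (Polynomial k) A), g.f z = 0 := by
    intro z hz
    refine Submodule.smul_induction_on hz (fun q hq m _ => ?_) fun a b ha hb => by rw [map_add, ha, hb, add_zero]
    ·
      rw [Algebra.smul_def, map_mul, RingHom.algebraMap_toAlgebra]
      show g.f (Polynomial.aeval x q) * _ = 0
      rw [ha] at hq
      obtain ⟨r, rfl⟩ := Ideal.mem_span_singleton.1 hq
      rw [apply_aeval, hg, Polynomial.eval_mul, hd.eq_zero, zero_mul, zero_mul]
  exact one_ne_zero ((map_one g.f).symm.trans (hzero 1 (htop.ge Submodule.mem_top)))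

end Law

end Groth.Agent.SGA7X.GaCurve
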