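import Groth.Agent.SGA7X.GaCurve.Basic
import Mathlib.RingTheory.QuasiFinite.Basic
import Mathlib.RingTheory.Ideal.KrullsHeightTheorem
import Mathlib.FieldTheory.IntermediateField.Adjoin.Basic
import Mathlib.RingTheory.Localization.FractionRing

/-! An additive function with finite kernel: the function field is finite over the line. -/

set_option autoImplicit false
set_option linter.unusedSectionVars false
universe u

open Polynomial

namespace Groth.Agent.SGA7X.GaCurve

variable {k A : Type u} [Field k] [CommRing A] [Algebra k A] [IsAlgClosed k] [Algebra.FiniteType k A]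

namespace Law

variable {p : ℕ} {L : Law k A p} [IsDomain A] {x : A}

/-- Points with a given value are finite in number. -/
theorem IsPrim.finite_eq (hx : L.IsPrim x) (hfin : {g : L.P | g.f x = 0}.Finite) (c : k) :
    {g : L.P | g.f x = c}.Finite := by
  by_cases h : ∃ g₀ : L.P, g₀.f x = c
  · obtain ⟨g₀, hg₀⟩ := h
    refine (hfin.image (· + g₀)).subset fun g hg => ⟨g - g₀, ?_, sub_add_cancel g g₀⟩
    show (g - g₀).f x = 0
    have := hx (g - g₀) g₀
    rw [sub_add_cancel, hg₀, show g.f x = c from hg] at this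
    exact add_eq_right.mp this.symm
  · exact Set.Finite.subset Set.finite_empty fun g hg => (h ⟨g, hg⟩).elim

/-- A prime containing `x - c` is the ideal of one of finitely many points. -/
theorem IsPrim.exists_pt_of_mem (hx : L.IsPrim x) (hfin : {g : L.P | g.f x = 0}.Finite) (c : k)
    (Q : Ideal A) [hQ : Q.IsPrime] (hc : x - algebraMap k A c ∈ Q) :
    ∃ g : L.P, g.f x = c ∧ Q = RingHom.ker g.f := by
  classical
  have : IsJacobsonRing A := isJacobsonRing_of_finiteType (A := k)
  have hQr : Q.jacobson = Q := IsJacobsonRing.out' Q hQ.isRadical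
  have hS := hx.finite_eq hfin c
  let S := hS.toFinset.filter fun g => Q ≤ RingHom.ker g.f
  have hle : S.inf (fun g : L.P => RingHom.ker g.f) ≤ Q := by
    intro a ha
    rw [← hQr, Ideal.jacobson, Ideal.mem_sInf]
    rintro m ⟨hQm, hm⟩
    have := hm
    obtain ⟨g, hg⟩ := exists_pt_ker (k := k) m
    have hgm : RingHom.ker g = m := Ideal.ext fun b => hg b
    have hgx : g x = c := by
      have := (hg _).2 (hQm hc)
      rwa [map_sub, AlgHom.commutes, Algebra.algebraMap_self, RingHom.id_apply, sub_eq_zero] at this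
    have hmem : (⟨g⟩ : L.P) ∈ S := Finset.mem_filter.2 ⟨hS.mem_toFinset.2 hgx, by rw [hgm]; exact hQm⟩
    have h' := Finset.inf_le (f := fun g : L.P => RingHom.ker g.f) hmem ha
    simpa only [hgm] using h'
  obtain ⟨g, hg, hgQ⟩ := (Ideal.IsPrime.inf_le' hQ).1 hle
  obtain ⟨hgS, hQg⟩ := Finset.mem_filter.1 hg
  exact ⟨g, hS.mem_toFinset.1 hgS, le_antisymm hQg hgQ⟩

/-- Only the zero prime lies over the generic point of the line. -/
theorem IsPrim.eq_bot_of_forall_notMem (hx : L.IsPrim x) (hfin : {g : L.P | g.f x = 0}.Finite)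
    (P : Ideal A) [hP : P.IsPrime] (h : ∀ c : k, x - algebraMap k A c ∉ P) : P = ⊥ := by
  by_contra hne
  have : IsNoetherianRing A := Algebra.FiniteType.isNoetherianRing k A
  obtain ⟨m, hm, hPm⟩ := Ideal.exists_le_maximal P hP.ne_top
  obtain ⟨g, hg⟩ := exists_pt_ker (k := k) m
  have hcm : x - algebraMap k A (g x) ∈ m := (hg _).1 (by simp)
  have hlt : P < m := lt_of_le_of_ne hPm fun e => h (g x) (e ▸ hcm)
  have hmin : m ∈ (Ideal.span {x - algebraMap k A (g x)}).minimalPrimes := by
    refine ⟨⟨hm.isPrime, (Ideal.span_singleton_le_iff_mem _).2 hcm⟩, ?_⟩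
    rintro Q ⟨hQ, hQc⟩ hQm
    have := hQ
    obtain ⟨g', -, hg'⟩ := hx.exists_pt_of_mem hfin (g x) Q ((Ideal.span_singleton_le_iff_mem _).1 hQc)
    have hQmax : Q.IsMaximal := hg' ▸ RingHom.ker_isMaximal_of_surjective g'.f.toRingHom
      (fun r => ⟨algebraMap k A r, g'.f.commutes r⟩)
    exact (hQmax.eq_of_le hm.ne_top hQm).ge
  have h1 : m.height ≤ 1 := Ideal.height_le_one_of_isPrincipal_of_mem_minimalPrimes _ m hmin
  have := hm.isPrime
  have h2 : P.height + 1 ≤ m.height := Ideal.height_add_one_le_of_lt_of_isPrime hlt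
  have h3 : P.height ≠ 0 := fun h0' => hne (Ideal.height_eq_zero_iff_eq_bot.1 h0')
  have h4 := h2.trans h1
  exact h3 (le_antisymm ((ENat.add_le_add_iff_right ENat.one_ne_top).1 (by rwa [zero_add])) zero_le)

/-- Quasi-finiteness over the line. -/
theorem IsPrim.quasiFinite (hx : L.IsPrim x) (hfin : {g : L.P | g.f x = 0}.Finite) :
    letI := (aeval x : k[X] →ₐ[k] A).toRingHom.toAlgebra
    Algebra.QuasiFinite k[X] A := by
  let := (aeval x : k[X] →ₐ[k] A).toRingHom.toAlgebra
  have : IsScalarTower k k[X] A := IsScalarTower.of_algebraMap_eq fun r => ((aeval x).commutes r).symm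
  have : Algebra.FiniteType k[X] A := Algebra.FiniteType.of_restrictScalars_finiteType k _ _
  rw [Algebra.QuasiFinite.iff_finite_comap_preimage_singleton]
  intro q
  by_cases hq : ∃ c : k, X - C c ∈ q.asIdeal
  · obtain ⟨c, hc⟩ := hq
    refine ((hx.finite_eq hfin c).image
      fun g => (⟨RingHom.ker g.f, RingHom.ker_isPrime g.f.toRingHom⟩ : PrimeSpectrum A)).subset ?_
    intro Q hQ
    have hxc : x - algebraMap k A c ∈ Q.asIdeal := by
      have : X - C c ∈ (PrimeSpectrum.comap (algebraMap k[X] A) Q).asIdeal := by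
        rw [show PrimeSpectrum.comap (algebraMap k[X] A) Q = q from hQ]; exact hc
      simpa [RingHom.algebraMap_toAlgebra] using this
    obtain ⟨g, hg, hgQ⟩ := hx.exists_pt_of_mem hfin c Q.asIdeal hxc
    exact ⟨g, hg, PrimeSpectrum.ext hgQ.symm⟩
  · refine (Set.finite_singleton (⟨⊥, Ideal.isPrime_bot⟩ : PrimeSpectrum A)).subset fun Q hQ => ?_
    refine PrimeSpectrum.ext (hx.eq_bot_of_forall_notMem hfin Q.asIdeal fun c hc => hq ⟨c, ?_⟩)
    rw [← show PrimeSpectrum.comap (algebraMap k[X] A) Q = q from hQ]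
    simpa [RingHom.algebraMap_toAlgebra] using hc

/-- The function field is finite over the field of the line. -/
theorem IsPrim.finiteDimensional (hx : L.IsPrim x) (hfin : {g : L.P | g.f x = 0}.Finite)
    (F : Type u) [Field F] [Algebra k F] [Algebra A F] [IsScalarTower k A F] [IsFractionRing A F] :
    FiniteDimensional (IntermediateField.adjoin k ({algebraMap A F x} : Set F)) F := by
  let := (aeval x : k[X] →ₐ[k] A).toRingHom.toAlgebra
  have := hx.quasiFinite hfin
  let xF := algebraMap A F x
  let K0 := IntermediateField.adjoin k ({xF} : Set F)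
  let : Algebra k[X] K0 :=
    (aeval (⟨xF, IntermediateField.mem_adjoin_simple_self k xF⟩ : K0) : k[X] →ₐ[k] K0).toRingHom.toAlgebra
  let : Algebra k[X] F := ((algebraMap A F).comp (algebraMap k[X] A)).toAlgebra
  have : IsScalarTower k[X] A F := IsScalarTower.of_algebraMap_eq fun q => rfl
  have : IsScalarTower k[X] K0 F := IsScalarTower.of_algebraMap_eq fun q => by
    show algebraMap A F (aeval x q) = K0.val (aeval _ q)
    rw [← aeval_algebraMap_apply, ← aeval_algHom_apply]
    rfl
  have : Algebra.QuasiFinite k[X] F := Algebra.QuasiFinite.of_isLocalization (nonZeroDivisors A)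
  have : Algebra.QuasiFinite K0 F := Algebra.QuasiFinite.of_restrictScalars k[X] K0 F
  exact Module.Finite.of_quasiFinite

end Law

end Groth.Agent.SGA7X.GaCurve
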