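import Groth.Agent.SGA7X.GaCurve.Field
import Mathlib.RingTheory.TensorProduct.IncludeLeftSubRight
import Mathlib.RingTheory.Unramified.Field
import Mathlib.RingTheory.RingHom.Unramified
import Mathlib.FieldTheory.Separable
import Mathlib.RingTheory.Etale.Field

/-! Invariants of the kernel of a separable additive function are polynomials in it. -/

set_option autoImplicit false
set_option linter.unusedSectionVars false
universe u

open Polynomial TensorProduct

namespace Groth.Agent.SGA7X.GaCurve

variable {k A : Type u} [Field k] [CommRing A] [Algebra k A] [IsAlgClosed k] [Algebra.FiniteType k A]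

namespace Law

variable {p : ℕ} {L : Law k A p} [IsDomain A] {x : A}

theorem IsPrim.mem_range_of_invariant (hx : L.IsPrim x) (h0 : x ≠ 0)
    (F : Type u) [Field F] [Algebra k F] [Algebra A F] [IsScalarTower k A F] [IsFractionRing A F]
    [FiniteDimensional (IntermediateField.adjoin k ({algebraMap A F x} : Set F)) F]
    [Algebra.IsSeparable (IntermediateField.adjoin k ({algebraMap A F x} : Set F)) F]
    {a : A} (ha : ∀ g : L.P, g.f x = 0 → L.T g a = a) : ∃ q : k[X], aeval x q = a := by
  let : Algebra k[X] A := (aeval x : k[X] →ₐ[k] A).toRingHom.toAlgebra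
  have : IsScalarTower k k[X] A := IsScalarTower.of_algebraMap_eq fun r => ((aeval x).commutes r).symm
  have : Module.FaithfullyFlat k[X] A := hx.faithfullyFlat h0
  let xF := algebraMap A F x
  let K0 := IntermediateField.adjoin k ({xF} : Set F)
  let : Algebra k[X] K0 :=
    (aeval (⟨xF, IntermediateField.mem_adjoin_simple_self k xF⟩ : K0) : k[X] →ₐ[k] K0).toRingHom.toAlgebra
  let : Algebra k[X] F := ((algebraMap A F).comp (algebraMap k[X] A)).toAlgebra
  have : IsScalarTower k[X] A F := IsScalarTower.of_algebraMap_eq fun q => rfl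
  have : IsScalarTower k[X] K0 F := IsScalarTower.of_algebraMap_eq fun q => by
    show algebraMap A F (aeval x q) = K0.val (aeval _ q)
    rw [← aeval_algebraMap_apply, ← aeval_algHom_apply]
    rfl
  have hinj : Function.Injective (algebraMap k[X] A) := hx.aeval_injective h0
  have hinjF : Function.Injective (algebraMap k[X] F) := (IsFractionRing.injective A F).comp hinj
  have : Module.IsTorsionFree k[X] F := Module.IsTorsionFree.comap (algebraMap k[X] F)
    (fun r hr => isRegular_iff_ne_zero.2 fun h => hr.ne_zero (hinjF (h.trans (map_zero _).symm)))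
    fun r m => (Algebra.smul_def r m).symm
  have : Module.Flat k[X] F := inferInstance
  have : TensorProduct.CompatibleSMul k[X] K0 F F := ⟨fun c m n => by
    obtain ⟨r, s, hrs⟩ := (IntermediateField.mem_adjoin_simple_iff k (c : F)).1 c.2
    have hr : aeval xF r = algebraMap k[X] F r := aeval_algebraMap_apply F x r
    have hs : aeval xF s = algebraMap k[X] F s := aeval_algebraMap_apply F x s
    rw [hr, hs] at hrs
    by_cases h : algebraMap k[X] F s = 0
    · have hc : c = 0 := Subtype.ext (by rw [hrs, h, div_zero]; rfl)
      simp [hc]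
    · have e1 : c • m = r • ((algebraMap k[X] F s)⁻¹ * m) := by
        rw [IntermediateField.smul_def, smul_eq_mul, Algebra.smul_def, hrs]; ring
      have e2 : s • ((algebraMap k[X] F s)⁻¹ * m) = m := by
        rw [Algebra.smul_def, mul_inv_cancel_left₀ h]
      have e3 : s • (c • n) = r • n := by
        rw [IntermediateField.smul_def, smul_eq_mul, Algebra.smul_def, Algebra.smul_def, hrs]
        field_simp
      rw [e1, TensorProduct.smul_tmul, ← e3, ← TensorProduct.smul_tmul, e2]⟩
  have hred : IsReduced (F ⊗[k[X]] F) := by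
    have : Algebra.FormallyUnramified K0 F := Algebra.FormallyUnramified.of_isSeparable K0 F
    have : Algebra.EssFiniteType K0 F := inferInstance
    have : IsReduced (F ⊗[K0] F) := Algebra.FormallyUnramified.isReduced_of_field F (F ⊗[K0] F)
    exact isReduced_of_injective
      (Algebra.TensorProduct.equivOfCompatibleSMul K0 k[X] k[X] F F) (AlgEquiv.injective _)
  let φ : A ⊗[k[X]] A →ₐ[k[X]] F ⊗[k[X]] F :=
    Algebra.TensorProduct.map (IsScalarTower.toAlgHom k[X] A F) (IsScalarTower.toAlgHom k[X] A F)
  have hφ : Function.Injective φ := by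
    have hi : Function.Injective (IsScalarTower.toAlgHom k[X] A F).toLinearMap := IsFractionRing.injective A F
    have : ⇑φ = ⇑(LinearMap.rTensor F (IsScalarTower.toAlgHom k[X] A F).toLinearMap) ∘
        ⇑(LinearMap.lTensor A (IsScalarTower.toAlgHom k[X] A F).toLinearMap) := by
      rw [← LinearMap.coe_comp, LinearMap.rTensor_comp_lTensor]; rfl
    rw [this]
    exact (Module.Flat.rTensor_preserves_injective_linearMap _ hi).comp
      (Module.Flat.lTensor_preserves_injective_linearMap _ hi)
  have : IsReduced (A ⊗[k[X]] A) := isReduced_of_injective φ hφ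
  have : Algebra.FiniteType k[X] A := Algebra.FiniteType.of_restrictScalars_finiteType k _ _
  have : Algebra.FiniteType A (A ⊗[k[X]] A) := inferInstance
  have : Algebra.FiniteType k (A ⊗[k[X]] A) := Algebra.FiniteType.trans (S := A) inferInstance inferInstance
  have key : (a ⊗ₜ[k[X]] (1 : A)) = (1 : A) ⊗ₜ[k[X]] a := by
    refine ext_of_pts (k := k) fun φ => ?_
    let g : L.P := ⟨φ.comp (Algebra.TensorProduct.includeLeft (R := k[X]) (S := k) (A := A) (B := A))⟩
    let h : L.P := ⟨φ.comp ((Algebra.TensorProduct.includeRight (R := k[X]) (A := A) (B := A)).restrictScalars k)⟩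
    have hgh : g.f x = h.f x := by
      show φ (x ⊗ₜ[k[X]] 1) = φ (1 ⊗ₜ[k[X]] x)
      have hxX : x = (X : k[X]) • (1 : A) := by
        rw [Algebra.smul_def, mul_one, RingHom.algebraMap_toAlgebra]; exact (aeval_X x).symm
      conv_lhs => rw [hxX, TensorProduct.smul_tmul, ← hxX]
    have he : (h - g).f x = 0 := by
      have := hx (h - g) g
      rw [sub_add_cancel, hgh] at this
      exact right_eq_add.mp this
    show g.f a = h.f a
    conv_lhs => rw [← ha _ he]
    rw [L.apply_T, add_sub_cancel]
  have hmem : a ∈ (Algebra.TensorProduct.includeLeftRingHom.eqLocus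
      (Algebra.TensorProduct.includeRight.toRingHom : A →+* A ⊗[k[X]] A) : Subring A) := key
  rw [← SetLike.mem_coe, (Algebra.IsEffective.of_faithfullyFlat k[X] A).eqLocus_includeLeft_includeRight] at hmem
  obtain ⟨q, hq⟩ := hmem
  exact ⟨q, hq⟩

end Law

end Groth.Agent.SGA7X.GaCurve
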