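import Mathlib.FieldTheory.SeparablyGenerated
import Mathlib.FieldTheory.PurelyInseparable.Exponent
import Mathlib.FieldTheory.KummerPolynomial
import Mathlib.FieldTheory.IsAlgClosed.Basic
import Mathlib.RingTheory.AlgebraicIndependent.TranscendenceBasis

/-! A function field of one variable is separable over every function which is not a `p`-th power. -/

set_option autoImplicit false
set_option linter.unusedSectionVars false
universe u

open IntermediateField

namespace Groth.Agent.SGA7X.GaCurve

variable {k F : Type u} [Field k] [IsAlgClosed k] [Field F] [Algebra k F] {p : ℕ} [CharP k p] [Fact p.Prime]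

/-- The field of `p`-th powers. -/
noncomputable def powField (k F : Type u) [Field k] [IsAlgClosed k] [Field F] [Algebra k F]
    (p : ℕ) [Fact p.Prime] [CharP F p] : IntermediateField k F :=
  (frobenius F p).fieldRange.toIntermediateField fun c => by
    obtain ⟨d, hd⟩ := IsAlgClosed.exists_pow_nat_eq c (Fact.out : p.Prime).pos
    exact ⟨algebraMap k F d, by rw [frobenius_def, ← map_pow, hd]⟩

theorem exists_single_basis (x : F) (htr : Transcendental k x) [FiniteDimensional k⟮x⟯ F]
    [Algebra.EssFiniteType k F] :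
    ∃ t : F, Algebra.IsSeparable k⟮t⟯ F := by
  obtain ⟨s, hs, hsep⟩ := exists_isTranscendenceBasis_and_isSeparable_of_perfectField k F
  have hx : IsTranscendenceBasis k (fun _ : PUnit.{u + 1} => x) := by
    have hind : AlgebraicIndependent k (fun _ : PUnit.{u + 1} => x) :=
      algebraicIndependent_unique_type_iff.2 htr
    rw [hind.isTranscendenceBasis_iff_isAlgebraic, Set.range_const]
    exact (isAlgebraic_adjoin_iff_top).1 (inferInstance : Algebra.IsAlgebraic k⟮x⟯ F)
  have hc := hs.cardinalMk_eq hx
  rw [Cardinal.mk_coe_finset, Cardinal.mk_fintype, Fintype.card_punit, Nat.cast_one, Nat.cast_eq_one] at hc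
  obtain ⟨t, rfl⟩ := Finset.card_eq_one.1 hc
  rw [Finset.coe_singleton] at hsep
  exact ⟨t, hsep⟩

theorem mem_adjoin_powField [CharP F p] (x : F) (htr : Transcendental k x) [FiniteDimensional k⟮x⟯ F]
    [Algebra.EssFiniteType k F] (hpow : ∀ z : F, z ^ p ≠ x) (a : F) :
    a ∈ (powField k F p)⟮x⟯ := by
  classical
  set M := powField k F p
  have hp : p.Prime := Fact.out
  have hmem : ∀ b : F, b ^ p ∈ M := fun b => ⟨b, rfl⟩
  have hint : ∀ b : F, IsIntegral M b := fun b =>
    ⟨Polynomial.X ^ p - Polynomial.C ⟨b ^ p, hmem b⟩, Polynomial.monic_X_pow_sub_C _ hp.ne_zero,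
      by simp [Polynomial.eval₂_sub, Polynomial.eval₂_pow]⟩
  have hdeg : ∀ b : F, Module.finrank M M⟮b⟯ ≤ p := by
    intro b
    rw [adjoin.finrank (hint b)]
    have h := minpoly.min M b (Polynomial.monic_X_pow_sub_C (⟨b ^ p, hmem b⟩ : M) hp.ne_zero) (by simp)
    rw [Polynomial.degree_X_pow_sub_C hp.pos] at h
    exact Polynomial.natDegree_le_iff_degree_le.2 h
  obtain ⟨t, ht⟩ := exists_single_basis (k := k) x htr
  have htop : M⟮t⟯ = ⊤ := by
    rw [eq_top_iff]
    intro b _
    have hle : k⟮t⟯ ≤ (M⟮t⟯).restrictScalars k := by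
      rw [adjoin_simple_le_iff]; exact mem_adjoin_simple_self M t
    let : Algebra k⟮t⟯ (M⟮t⟯ : IntermediateField M F) := (inclusion hle).toRingHom.toAlgebra
    have : IsScalarTower k⟮t⟯ (M⟮t⟯ : IntermediateField M F) F := IsScalarTower.of_algebraMap_eq fun _ => rfl
    have : Algebra.IsSeparable (M⟮t⟯ : IntermediateField M F) F :=
      Algebra.isSeparable_tower_top_of_isSeparable k⟮t⟯ (M⟮t⟯ : IntermediateField M F) F
    have : CharP (M⟮t⟯ : IntermediateField M F) p :=
      (algebraMap (M⟮t⟯ : IntermediateField M F) F).charP (FaithfulSMul.algebraMap_injective _ F) p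
    have : IsPurelyInseparable (M⟮t⟯ : IntermediateField M F) F :=
      (isPurelyInseparable_iff_pow_mem _ p).2 fun c => ⟨1,
        ⟨⟨c ^ p, (M⟮t⟯).algebraMap_mem ⟨c ^ p, hmem c⟩⟩, by simp⟩⟩
    obtain ⟨y, rfl⟩ := IsPurelyInseparable.surjective_algebraMap_of_isSeparable
      (M⟮t⟯ : IntermediateField M F) F b
    exact y.2
  have : FiniteDimensional M M⟮t⟯ := adjoin.finiteDimensional (hint t)
  have : FiniteDimensional M F := by
    rw [htop] at this
    exact topEquiv.toLinearEquiv.finiteDimensional
  have h1 : Module.finrank M F ≤ p := by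
    have := hdeg t
    rwa [htop, IntermediateField.finrank_top'] at this
  have h2 : Module.finrank M M⟮x⟯ = p := by
    rw [adjoin.finrank (hint x)]
    have hirr := X_pow_sub_C_irreducible_of_prime hp (a := (⟨x ^ p, hmem x⟩ : M)) fun ⟨b, z, hz⟩ hb => by
      refine hpow z ?_
      have h0 : b ^ p = x ^ p := congrArg Subtype.val hb
      rw [← hz] at h0
      exact frobenius_inj F p h0
    rw [← minpoly.eq_of_irreducible_of_monic hirr (by simp) (Polynomial.monic_X_pow_sub_C _ hp.ne_zero),
      Polynomial.natDegree_X_pow_sub_C]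
  have : M⟮x⟯ = ⊤ := IntermediateField.eq_of_le_of_finrank_le le_top (by
    rw [IntermediateField.finrank_top', h2]; exact h1)
  rw [this]; trivial

theorem isSeparable_of_not_pow [CharP F p] (x : F) (htr : Transcendental k x) [FiniteDimensional k⟮x⟯ F]
    [Algebra.EssFiniteType k F] (hpow : ∀ z : F, z ^ p ≠ x) :
    Algebra.IsSeparable k⟮x⟯ F := by
  rw [← separableClosure.eq_top_iff]
  set S := separableClosure k⟮x⟯ F
  have : CharP k⟮x⟯ p := (algebraMap k⟮x⟯ F).charP (FaithfulSMul.algebraMap_injective _ F) p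
  have : CharP S p := (algebraMap S F).charP (FaithfulSMul.algebraMap_injective _ F) p
  have hxS : x ∈ S := S.algebraMap_mem ⟨x, mem_adjoin_simple_self k x⟩
  have hfin : FiniteDimensional S F := Module.Finite.of_restrictScalars_finite k⟮x⟯ S F
  have key : ∀ n, (∀ a : F, a ^ p ^ (n + 1) ∈ S) → ∀ a : F, a ^ p ^ n ∈ S := by
    intro n hn a
    have ha := mem_adjoin_powField (k := k) x htr hpow a
    refine IntermediateField.adjoin_induction (powField k F p) (p := fun b _ => b ^ p ^ n ∈ S) ?_ ?_ ?_ ?_ ?_ ha
    · rintro b rfl; exact pow_mem hxS _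
    · rintro ⟨b, c, rfl⟩
      show (c ^ p) ^ p ^ n ∈ S
      rw [← pow_mul, ← pow_succ']
      exact hn c
    · intro b c _ _ hb hc
      rw [add_pow_expChar_pow]; exact add_mem hb hc
    · intro b _ hb
      rw [inv_pow]; exact inv_mem hb
    · intro b c _ _ hb hc
      rw [mul_pow]; exact mul_mem hb hc
  have : IsPurelyInseparable S F := separableClosure.isPurelyInseparable k⟮x⟯ F
  have : ∀ n, (∀ a : F, a ^ p ^ n ∈ S) → ∀ a : F, a ∈ S := by
    intro n
    induction n with
    | zero => intro h a; simpa using h a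
    | succ n ih => intro h; exact ih (key n h)
  rw [eq_top_iff]
  intro a _
  refine this (IsPurelyInseparable.exponent S F) (fun b => ?_) a
  obtain ⟨c, hc⟩ := IsPurelyInseparable.exponent_def' S p b
  exact hc ▸ c.2

end Groth.Agent.SGA7X.GaCurve
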