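import Groth.Agent.SGA7X.GaCurve.AS
import Groth.Agent.SGA7X.GaCurve.Sep
import Mathlib.RingTheory.IntegralClosure.IntegrallyClosed

/-! A group curve killed by `p` on which every additive function has finite kernel is the additive group. -/

set_option autoImplicit false
set_option linter.unusedSectionVars false
universe u

open Polynomial IntermediateField

namespace Groth.Agent.SGA7X.GaCurve

theorem finrank_lt_of_adjoin_lt {k F : Type u} [Field k] [Field F] [Algebra k F] {u v : F}
    [FiniteDimensional k⟮u⟯ F] (huv : u ∈ k⟮v⟯) (hvu : v ∉ k⟮u⟯) :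
    Module.finrank k⟮v⟯ F < Module.finrank k⟮u⟯ F := by
  have h : k⟮u⟯ ≤ k⟮v⟯ := adjoin_simple_le_iff.2 huv
  let M := extendScalars h
  have h1 : Module.finrank k⟮u⟯ M * Module.finrank M F = Module.finrank k⟮u⟯ F :=
    Module.finrank_mul_finrank k⟮u⟯ M F
  have h2 : 1 < Module.finrank k⟮u⟯ M := by
    by_contra hle
    have hM : M = ⊥ := IntermediateField.finrank_eq_one_iff.1 (le_antisymm (not_lt.1 hle) Module.finrank_pos)
    have : v ∈ M := mem_adjoin_simple_self k v
    rw [hM, IntermediateField.mem_bot] at this
    obtain ⟨w, hw⟩ := this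
    exact hvu (hw ▸ w.2)
  have h3 : 0 < Module.finrank M F := Module.finrank_pos
  calc Module.finrank k⟮v⟯ F = Module.finrank M F := rfl
    _ < _ := h1 ▸ lt_mul_of_one_lt_left h3 h2

namespace Law

variable {k A : Type u} [Field k] [CommRing A] [Algebra k A] [IsAlgClosed k] [Algebra.FiniteType k A]
variable {p : ℕ} [CharP k p] [Fact p.Prime] (L : Law k A p) [IsDomain A] [IsIntegrallyClosed A]

theorem exists_coordinate (hfin : ∀ x : A, x ≠ 0 → L.IsPrim x → {g : L.P | g.f x = 0}.Finite)
    (x : A) (hx : L.IsPrim x) (h0 : x ≠ 0) :
    ∃ z : A, L.IsPrim z ∧ Function.Bijective (aeval z : k[X] →ₐ[k] A) := by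
  classical
  let F := FractionRing A
  have hp : p.Prime := Fact.out
  have : CharP F p := charP_of_injective_algebraMap (R := k) (algebraMap k F).injective p
  have : Algebra.EssFiniteType A F := Algebra.EssFiniteType.of_isLocalization F (nonZeroDivisors A)
  have : Algebra.EssFiniteType k F := Algebra.EssFiniteType.comp k A F
  have hfrac : Function.Injective (algebraMap A F) := IsFractionRing.injective A F
  induction hN : Module.finrank k⟮algebraMap A F x⟯ F using Nat.strong_induction_on generalizing x with
  | _ N ih =>
    have := hx.finiteDimensional (hfin x h0 hx) F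
    have hinj := hx.aeval_injective h0
    have htr : Transcendental k (algebraMap A F x) := by
      rw [transcendental_iff_injective]
      intro r s hrs
      exact hinj (hfrac (by rwa [← aeval_algebraMap_apply, ← aeval_algebraMap_apply]))
    by_cases hpow : ∃ z : F, z ^ p = algebraMap A F x
    · obtain ⟨z, hz⟩ := hpow
      obtain ⟨z₀, rfl⟩ : ∃ z₀ : A, algebraMap A F z₀ = z :=
        IsIntegrallyClosed.isIntegral_iff.1 ⟨X ^ p - C x, monic_X_pow_sub_C _ hp.ne_zero, by simp [eval₂_sub, hz]⟩
      have hz₀ : z₀ ^ p = x := hfrac (by rw [map_pow, hz])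
      have hz0 : z₀ ≠ 0 := fun h => h0 (by rw [← hz₀, h, zero_pow hp.ne_zero])
      have hprim : L.IsPrim z₀ := fun g h => frobenius_inj k p (by
        simp only [frobenius_def, add_pow_char]
        rw [← map_pow, ← map_pow, ← map_pow, hz₀]; exact hx g h)
      refine ih _ (hN ▸ finrank_lt_of_adjoin_lt ?_ ?_) z₀ hprim hz0 rfl
      · rw [← hz]; exact pow_mem (mem_adjoin_simple_self k _) _
      · intro hmem
        obtain ⟨r, s, hrs⟩ := (mem_adjoin_simple_iff k _).1 hmem
        have hs : aeval (algebraMap A F x) s ≠ 0 := fun h => hz0 (hfrac (by rw [hrs, h, div_zero, map_zero]))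
        have heq : r ^ p = X * s ^ p := by
          refine transcendental_iff_injective.1 htr ?_
          rw [map_pow, map_mul, aeval_X, map_pow]
          have e := hz
          rw [hrs, div_pow] at e
          exact (div_eq_iff (pow_ne_zero _ hs)).1 e
        have hs0 : s ≠ 0 := fun h => hs (by rw [h, map_zero])
        have hd := congrArg natDegree heq
        rw [natDegree_pow, natDegree_mul X_ne_zero (pow_ne_zero _ hs0), natDegree_X, natDegree_pow] at hd
        rcases Nat.lt_or_ge s.natDegree r.natDegree with hlt | hge
        · nlinarith [hp.two_le]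
        · nlinarith [hp.two_le]
    · simp only [not_exists] at hpow
      have := isSeparable_of_not_pow (p := p) (algebraMap A F x) htr hpow
      by_cases hE : ∃ g : L.P, g ≠ 0 ∧ g.f x = 0
      · obtain ⟨y, a, d, hy, ha, hyx, hdx, hdy⟩ := hx.exists_descend h0 (hfin x h0 hx) F hE
        have hy0 : y ≠ 0 := fun h => hdy (by rw [h, map_zero])
        refine ih _ (hN ▸ finrank_lt_of_adjoin_lt ?_ ?_) y hy hy0 rfl
        · have : algebraMap A F x = algebraMap k F a⁻¹ * (algebraMap A F y ^ p - algebraMap A F y) := by
            rw [← map_pow, ← map_sub, hyx, map_mul, ← IsScalarTower.algebraMap_apply k A F, ← mul_assoc,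
              ← map_mul, inv_mul_cancel₀ ha, map_one, _root_.one_mul]
          rw [this]
          exact mul_mem (IntermediateField.algebraMap_mem _ _)
            (sub_mem (pow_mem (mem_adjoin_simple_self k _) _) (mem_adjoin_simple_self k _))
        · intro hmem
          obtain ⟨r, s, hrs⟩ := (mem_adjoin_simple_iff k _).1 hmem
          by_cases hs : aeval (algebraMap A F x) s = 0
          · exact hy0 (hfrac (by rw [hrs, hs, div_zero, map_zero]))
          have hrs' : y * aeval x s = aeval x r := hfrac (by
            rw [map_mul, ← aeval_algebraMap_apply, ← aeval_algebraMap_apply, hrs, div_mul_cancel₀ _ hs])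
          have h2 := congrArg (L.T d) hrs'
          rw [map_mul, hx.taylor_eq, hx.taylor_eq, hdx, taylor_zero, taylor_zero, hy.T_eq, add_mul, hrs',
            add_eq_left, mul_eq_zero] at h2
          rcases h2 with h2 | h2
          · exact hdy ((algebraMap k A).injective (h2.trans (map_zero _).symm))
          · exact hs (by rw [aeval_algebraMap_apply, h2, map_zero])
      · simp only [not_exists, not_and] at hE
        refine ⟨x, hx, hinj, fun a => hx.mem_range_of_invariant h0 F fun g hg => ?_⟩
        rw [show g = 0 from not_not.1 fun h => hE g h hg, L.T_zero]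

end Law

end Groth.Agent.SGA7X.GaCurve
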